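import Cfsg.Agent.Lib.KnownB.L34.M8T
import Cfsg.Agent.Lib.KnownB.O8Mult.Chain
import Cfsg.Agent.Lib.Spor.FourField
import Mathlib.LinearAlgebra.Matrix.SpecialLinearGroup

/-!
Codes for triples of an element of `SL₃(4)` and two `8 × 8` matrices modulo `3`.
-/

set_option autoImplicit false
set_option maxRecDepth 100000

namespace CfsgLib.KnownB.L34

open Matrix CfsgLib.Spor CfsgLib.KnownB.Mult

/-- the element of a number -/
def q4 (n : ℕ) : QField := ⟨⟨n % 4, Nat.mod_lt _ (by norm_num)⟩⟩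

/-- sum -/
def addN (a b : ℕ) : ℕ := (a % 4) ^^^ (b % 4)

/-- product -/
def mulN (a b : ℕ) : ℕ := (2625168384 >>> (2 * (4 * (a % 4) + b % 4))) % 4

theorem q4_mod (n : ℕ) : q4 n = q4 (n % 4) := by
  simp [q4, Nat.mod_mod]

theorem tables : ∀ a < 4, ∀ b < 4, q4 (addN a b) = q4 a + q4 b ∧ q4 (mulN a b) = q4 a * q4 b := by
  decide +kernel

theorem q4_add (a b : ℕ) : q4 (addN a b) = q4 a + q4 b := by
  have h := (tables (a % 4) (Nat.mod_lt _ (by norm_num)) (b % 4) (Nat.mod_lt _ (by norm_num))).1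
  rw [← q4_mod, ← q4_mod] at h
  rw [← h]
  simp [addN, Nat.mod_mod]

theorem q4_mul (a b : ℕ) : q4 (mulN a b) = q4 a * q4 b := by
  have h := (tables (a % 4) (Nat.mod_lt _ (by norm_num)) (b % 4) (Nat.mod_lt _ (by norm_num))).2
  rw [← q4_mod, ← q4_mod] at h
  rw [← h]
  simp [mulN, Nat.mod_mod]

theorem q4_eq_iff {a b : ℕ} : q4 a = q4 b ↔ a % 4 = b % 4 := by
  simp [q4, Fin.ext_iff]

theorem q4_surjective : ∀ c : QField, ∃ n < 4, q4 n = c := by decide +kernel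

/-- nine entries -/
structure M3 where
  x00 : ℕ
  x01 : ℕ
  x02 : ℕ
  x10 : ℕ
  x11 : ℕ
  x12 : ℕ
  x20 : ℕ
  x21 : ℕ
  x22 : ℕ

/-- inner product -/
def dot3 (a b c x y z : ℕ) : ℕ := addN (addN (mulN a x) (mulN b y)) (mulN c z)

/-- product -/
def mul3 (p r : M3) : M3 :=
  ⟨dot3 p.x00 p.x01 p.x02 r.x00 r.x10 r.x20, dot3 p.x00 p.x01 p.x02 r.x01 r.x11 r.x21,
   dot3 p.x00 p.x01 p.x02 r.x02 r.x12 r.x22, dot3 p.x10 p.x11 p.x12 r.x00 r.x10 r.x20,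
   dot3 p.x10 p.x11 p.x12 r.x01 r.x11 r.x21, dot3 p.x10 p.x11 p.x12 r.x02 r.x12 r.x22,
   dot3 p.x20 p.x21 p.x22 r.x00 r.x10 r.x20, dot3 p.x20 p.x21 p.x22 r.x01 r.x11 r.x21,
   dot3 p.x20 p.x21 p.x22 r.x02 r.x12 r.x22⟩

/-- identity -/
def one3 : M3 := ⟨1, 0, 0, 0, 1, 0, 0, 0, 1⟩

/-- equality -/
def eq3 (p r : M3) : Bool :=
  Nat.beq (p.x00 % 4) (r.x00 % 4) && Nat.beq (p.x01 % 4) (r.x01 % 4) && Nat.beq (p.x02 % 4) (r.x02 % 4) &&
    Nat.beq (p.x10 % 4) (r.x10 % 4) && Nat.beq (p.x11 % 4) (r.x11 % 4) && Nat.beq (p.x12 % 4) (r.x12 % 4) &&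
    Nat.beq (p.x20 % 4) (r.x20 % 4) && Nat.beq (p.x21 % 4) (r.x21 % 4) && Nat.beq (p.x22 % 4) (r.x22 % 4)

/-- the matrix -/
def dec3 (p : M3) : Matrix (Fin 3) (Fin 3) QField :=
  !![q4 p.x00, q4 p.x01, q4 p.x02; q4 p.x10, q4 p.x11, q4 p.x12; q4 p.x20, q4 p.x21, q4 p.x22]

theorem dec3_mul (p r : M3) : dec3 (mul3 p r) = dec3 p * dec3 r := by
  simp only [dec3, mul3, dot3, q4_add, q4_mul]
  ext i j
  rw [Matrix.mul_apply, Fin.sum_univ_three]
  fin_cases i <;> fin_cases j <;> rfl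

theorem dec3_one : dec3 one3 = 1 := by decide +kernel

theorem eq3_iff {p r : M3} : eq3 p r = true ↔ dec3 p = dec3 r := by
  simp only [eq3, Bool.and_eq_true, Nat.beq_eq, ← q4_eq_iff, dec3, and_assoc]
  constructor
  · rintro ⟨a, b, c, d, e, f, g, h, i⟩
    rw [a, b, c, d, e, f, g, h, i]
  · intro h
    exact ⟨congrFun (congrFun h 0) 0, congrFun (congrFun h 0) 1, congrFun (congrFun h 0) 2,
      congrFun (congrFun h 1) 0, congrFun (congrFun h 1) 1, congrFun (congrFun h 1) 2,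
      congrFun (congrFun h 2) 0, congrFun (congrFun h 2) 1, congrFun (congrFun h 2) 2⟩

/-- the special linear group -/
abbrev S3 : Type := SpecialLinearGroup (Fin 3) QField

/-- the ambient group -/
abbrev Amb : Type := S3 × GL (Fin 8) (ZMod 3) × GL (Fin 8) (ZMod 3)

/-- a triple -/
structure CL where
  a : M3
  b : M8
  c : M8

/-- product -/
def mulC (x y : CL) : CL := ⟨mul3 x.a y.a, mul8 x.b y.b, mul8 x.c y.c⟩

/-- identity -/
def oneC : CL := ⟨one3, one8, one8⟩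

/-- equality -/
def eqC (x y : CL) : Bool := eq3 x.a y.a && eq8 x.b y.b && eq8 x.c y.c

/-- `g` has code `x` -/
def RepA (g : Amb) (x : CL) : Prop :=
  (g.1 : Matrix (Fin 3) (Fin 3) QField) = dec3 x.a ∧
    (g.2.1 : Matrix (Fin 8) (Fin 8) (ZMod 3)) = dec8 x.b ∧
    (g.2.2 : Matrix (Fin 8) (Fin 8) (ZMod 3)) = dec8 x.c

theorem RepA.mul {g h : Amb} {x y : CL} (hg : RepA g x) (hh : RepA h y) : RepA (g * h) (mulC x y) := by
  refine ⟨?_, ?_, ?_⟩
  · rw [mulC, dec3_mul, ← hg.1, ← hh.1]; rfl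
  · rw [mulC, dec8_mul, ← hg.2.1, ← hh.2.1]; rfl
  · rw [mulC, dec8_mul, ← hg.2.2, ← hh.2.2]; rfl

theorem repA_one : RepA 1 oneC := ⟨dec3_one.symm, dec8_one.symm, dec8_one.symm⟩

theorem eqC_iff {g h : Amb} {x y : CL} (hg : RepA g x) (hh : RepA h y) : eqC x y = true ↔ g = h := by
  rw [eqC, Bool.and_eq_true, Bool.and_eq_true, eq3_iff, eq8_iff, eq8_iff, ← hg.1, ← hg.2.1, ← hg.2.2,
    ← hh.1, ← hh.2.1, ← hh.2.2]
  constructor
  · rintro ⟨⟨h1, h2⟩, h3⟩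
    exact Prod.ext (Subtype.ext h1) (Prod.ext (Units.ext h2) (Units.ext h3))
  · rintro rfl
    exact ⟨⟨rfl, rfl⟩, rfl⟩

theorem RepA.of_eqC {g : Amb} {x y : CL} (hg : RepA g x) (h : eqC x y = true) : RepA g y := by
  simp only [eqC, Bool.and_eq_true, eq3_iff, eq8_iff] at h
  exact ⟨hg.1.trans h.1.1, hg.2.1.trans h.1.2, hg.2.2.trans h.2⟩

/-- mutually inverse codes with determinant one -/
def genOK (q : CL × CL) : Bool :=
  eqC (mulC q.1 q.2) oneC && eqC (mulC q.2 q.1) oneC && decide ((dec3 q.1.a).det = 1)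

theorem exists_amb {q : CL × CL} (h : genOK q = true) : ∃ g : Amb, RepA g q.1 := by
  simp only [genOK, eqC, Bool.and_eq_true, eq8_iff, mulC, oneC, dec8_mul, dec8_one, decide_eq_true_eq] at h
  exact ⟨(⟨dec3 q.1.a, h.2⟩, ⟨_, _, h.1.1.1.2, h.1.2.1.2⟩, ⟨_, _, h.1.1.2, h.1.2.2⟩), rfl, rfl, rfl⟩

/-- codes in the ambient group -/
def codeA : Code Amb CL where
  rep := RepA
  mul := mulC
  one := oneC
  eqc := eqC
  okc _ := false
  rep_mul := RepA.mul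
  rep_one := repA_one
  eq_iff := eqC_iff
  exists_rep h := Bool.noConfusion h

theorem respects : Sp62.Respects codeA := fun _ _ _ h e => RepA.of_eqC h e

theorem invRespects : O8Mult.InvRespects codeA := by
  intro a x y ha h
  have h' : eqC (mulC y x) oneC = true := h
  simp only [eqC, Bool.and_eq_true, eq3_iff, eq8_iff, mulC, oneC, dec3_mul, dec3_one, dec8_mul,
    dec8_one] at h'
  refine ⟨?_, ?_, ?_⟩
  · refine (left_inv_eq_right_inv h'.1.1 ?_).symm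
    rw [← ha.1]
    show ((a.1 * a.1⁻¹ : S3) : Matrix (Fin 3) (Fin 3) QField) = 1
    rw [mul_inv_cancel]; rfl
  · refine (left_inv_eq_right_inv h'.1.2 ?_).symm
    rw [← ha.2.1]
    exact Units.mul_inv a.2.1
  · refine (left_inv_eq_right_inv h'.2 ?_).symm
    rw [← ha.2.2]
    exact Units.mul_inv a.2.2

/-- a column as a number -/
def pt (b : ℕ) (x : CL) : ℕ :=
  match b with
  | 0 => x.a.x00 % 4 + 4 * (x.a.x10 % 4 + 4 * (x.a.x20 % 4))
  | 1 => x.a.x01 % 4 + 4 * (x.a.x11 % 4 + 4 * (x.a.x21 % 4))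
  | _ => x.a.x02 % 4 + 4 * (x.a.x12 % 4 + 4 * (x.a.x22 % 4))

end CfsgLib.KnownB.L34
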