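import Cfsg.Agent.Lib.KnownB.L34.Data
import Cfsg.Agent.Lib.KnownB.L34.CertData

/-!
The covering group of `L₃(4)` inside `SL₃(4) × GL₈(3) × GL₈(3)`.
-/

set_option autoImplicit false
set_option maxRecDepth 100000
set_option Elab.async false
set_option maxHeartbeats 4000000

namespace CfsgLib.KnownB.L34

open Matrix CfsgLib.Spor CfsgLib.KnownB.Mult
open CfsgLib.KnownB.Sp62 (Lvl Has hof InForm sift ngens evL exists_evL)
open CfsgLib.KnownB.O8Mult (chainOK chain_spec has_next)

/-- pairwise different numbers -/
def nodupN : List ℕ → Bool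
  | [] => true
  | a :: l => !l.any (Nat.beq a) && nodupN l

/-- fixing columns and separating the representatives -/
def colsOK : List ℕ → List (Lvl CL) → Bool
  | pre, [] => finG.all fun g => pre.all fun j => Nat.beq (pt j g) (pt j oneC)
  | pre, L :: r =>
    Nat.blt L.b 3 && (L.gens.all fun g => pre.all fun j => Nat.beq (pt j g) (pt j oneC)) &&
      (L.trans.all fun t => !Nat.beq (pt L.b t.1.2) (pt L.b oneC) || eqC t.1.2 oneC) &&
      nodupN (L.trans.map fun t => pt L.b t.1.2) &&
      colsOK (L.b :: pre) r

/-- the covering group -/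
def Cover : Subgroup Amb := hof codeA lvl0.gens

theorem chain_ok : chainOK codeA pt kerC finG levels = true := by decide +kernel

theorem cols_ok : colsOK [] levels = true := by decide +kernel

theorem gens_ok : (lvl0.gens.all fun g => genData.any fun q => eqC q.1 g && genOK q) = true := by
  decide +kernel

theorem has_top : Has codeA (ngens finG levels) := by
  intro x hx
  obtain ⟨q, -, hq⟩ := List.any_eq_true.1 (List.all_eq_true.1 gens_ok x hx)
  rw [Bool.and_eq_true] at hq
  obtain ⟨g, hg⟩ := exists_amb hq.2
  exact ⟨g, hg.of_eqC hq.1⟩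

theorem mem_cover_of_sift {g : Amb} {x : CL} (hg : RepA g x) (h : sift codeA pt kerC levels x = true) :
    g ∈ Cover :=
  (chain_spec respects invRespects levels chain_ok has_top).1 g x hg h

/-- codes, with a membership test by the chain and a list of inverses -/
def code (invs : List (CL × CL)) : Code Cover CL where
  rep g x := RepA (g : Amb) x
  mul := mulC
  one := oneC
  eqc := eqC
  okc x := (invs.any fun q => eqC q.1 x && genOK q) && sift codeA pt kerC levels x
  rep_mul := RepA.mul
  rep_one := repA_one
  eq_iff h h' := (eqC_iff h h').trans Subtype.coe_injective.eq_iff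
  exists_rep h := by
    rw [Bool.and_eq_true, List.any_eq_true] at h
    obtain ⟨⟨q, -, hq⟩, hs⟩ := h
    rw [Bool.and_eq_true] at hq
    obtain ⟨g, hg⟩ := exists_amb hq.2
    exact ⟨⟨g, mem_cover_of_sift (hg.of_eqC hq.1) hs⟩, hg.of_eqC hq.1⟩

theorem cert2_valid : cert2.Valid (code invs2) 2 where
  gen := by decide +kernel
  rel := by decide +kernel
  pc := by decide +kernel
  indep := by decide +kernel
  rows := by decide +kernel
  target := by decide +kernel

theorem cert3_valid : cert3.Valid (code invs3) 3 where
  gen := by decide +kernel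
  rel := by decide +kernel
  pc := by decide +kernel
  indep := by decide +kernel
  rows := by decide +kernel
  target := by decide +kernel

/-- powers of the three central generators -/
def zK (a b c : ℕ) : CL :=
  mulC (mulC (Cert.powC codeA (zC.getD 0 (oneC, oneC)).1 a) (Cert.powC codeA (zC.getD 1 (oneC, oneC)).1 b))
    (Cert.powC codeA (zC.getD 2 (oneC, oneC)).1 c)

theorem z_ok : zC.length = 3 ∧ (zC.all fun q => genOK q && sift codeA pt kerC levels q.1) = true ∧
    (zC.all fun q => lvl0.gens.all fun g => eqC (mulC q.1 g) (mulC g q.1)) = true ∧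
    (eqC (zK 3 0 0) oneC && eqC (zK 0 4 0) oneC && eqC (zK 0 0 4) oneC) = true ∧
    (kerC.all fun z => (List.range 4).any fun b => (List.range 4).any fun c => eqC z (zK 0 b c)) = true ∧
    ((List.range 3).all fun a => (List.range 4).all fun b => (List.range 4).all fun c =>
      (Nat.beq a 0 && Nat.beq b 0 && Nat.beq c 0) || !eqC (zK a b c) oneC) = true := by
  refine ⟨?_, ?_, ?_, ?_, ?_, ?_⟩ <;> decide +kernel

theorem scalar_ok : ((List.range 4).all fun r =>
    !decide (q4 r ^ 3 = 1) || (List.range 3).any fun a =>
      eq3 (zK a 0 0).a ⟨r, 0, 0, 0, r, 0, 0, 0, r⟩) = true ∧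
    ((List.range 3).all fun a => (List.range 4).all fun b => (List.range 4).all fun c =>
      (List.range 4).any fun r => eq3 (zK a b c).a ⟨r, 0, 0, 0, r, 0, 0, 0, r⟩) = true := by
  refine ⟨?_, ?_⟩ <;> decide +kernel

theorem comm_ok : ((commPairs.zip zC).all fun q =>
      genOK q.1.1 && genOK q.1.2 && sift codeA pt kerC levels q.1.1.1 && sift codeA pt kerC levels q.1.2.1 &&
        eqC (mulC q.1.1.1 q.1.2.1) (mulC q.2.1 (mulC q.1.2.1 q.1.1.1))) = true ∧
    commPairs.length = zC.length := by
  refine ⟨?_, ?_⟩ <;> decide +kernel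

end CfsgLib.KnownB.L34
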