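import Cfsg.Agent.Lib.KnownB.L34.Cover
import Cfsg.Agent.Lib.KnownB.Mult.Reduce
import Cfsg.Agent.Lib.Schur.Lift
import Cfsg.Agent.Lib.Classical.Order
import Cfsg.Agent.Lib.PSL2.Congr

/-!
The Schur multiplier of `PSL₃(4)` is `3 × 4 × 4`.
-/

set_option autoImplicit false
set_option maxRecDepth 100000

namespace CfsgLib.KnownB.L34

open Matrix CfsgLib.Spor CfsgLib.KnownB.Mult
open CfsgLib.KnownB.Sp62 (Lvl Has hof InForm sift ngens evL exists_evL)
open CfsgLib.KnownB.O8Mult (chainOK lvlOK chain_spec has_next)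
open scoped commutatorElement

/-- unit vectors -/
def ev (j : ℕ) : Fin 3 → QField := fun i => if (i : ℕ) = j then 1 else 0

/-- action on vectors -/
def moves (g : Amb) (u : Fin 3 → QField) : Fin 3 → QField := (g.1 : Matrix (Fin 3) (Fin 3) QField) *ᵥ u

theorem moves_mul (g h : Amb) (u : Fin 3 → QField) : moves (g * h) u = moves g (moves h u) := by
  show ((g.1 : Matrix (Fin 3) (Fin 3) QField) * (h.1 : Matrix (Fin 3) (Fin 3) QField)) *ᵥ u = _
  exact (mulVec_mulVec _ _ _).symm

theorem moves_one (u : Fin 3 → QField) : moves 1 u = u := one_mulVec _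

/-- the vector of a packed column -/
def dcol (n : ℕ) : Fin 3 → QField := ![q4 n, q4 (n / 4), q4 (n / 16)]

theorem moves_rep {g : Amb} {x : CL} (h : RepA g x) {b : ℕ} (hb : b < 3) :
    moves g (ev b) = dcol (pt b x) := by
  have hsurj : ∀ a c d : ℕ, dcol (a % 4 + 4 * (c % 4 + 4 * (d % 4))) = ![q4 a, q4 c, q4 d] := by
    intro a c d
    have e : ∀ {m n : ℕ}, m % 4 = n % 4 → q4 m = q4 n := fun h => q4_eq_iff.2 h
    simp only [dcol]
    rw [e (m := a % 4 + 4 * (c % 4 + 4 * (d % 4))) (n := a) (by omega),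
      e (m := (a % 4 + 4 * (c % 4 + 4 * (d % 4))) / 4) (n := c) (by omega),
      e (m := (a % 4 + 4 * (c % 4 + 4 * (d % 4))) / 16) (n := d) (by omega)]
  funext i
  rw [moves, h.1]
  interval_cases b <;> simp only [pt, hsurj] <;>
    fin_cases i <;> simp [mulVec, dotProduct, Fin.sum_univ_three, ev, dec3]

theorem fix_of_check {l : List CL} {b : ℕ} (hb : b < 3) (h : ∀ g ∈ l, pt b g = pt b oneC) :
    ∀ a ∈ hof codeA l, moves a (ev b) = ev b := by
  intro a ha
  induction ha using Subgroup.closure_induction with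
  | mem a ha =>
    obtain ⟨x, hx, hr⟩ := ha
    rw [moves_rep hr hb, h x hx, ← moves_rep repA_one hb, moves_one]
  | one => exact moves_one _
  | mul x y _ _ hx hy => rw [moves_mul, hy, hx]
  | inv x _ hx => conv_lhs => rw [← hx, ← moves_mul, inv_mul_cancel, moves_one]

theorem cols_fix : ∀ (Ls : List (Lvl CL)) (pre : List ℕ), colsOK pre Ls = true → (∀ j ∈ pre, j < 3) →
    ∀ j ∈ pre, ∀ a ∈ hof codeA (ngens finG Ls), moves a (ev j) = ev j
  | [], pre, h, hlt, j, hj => by
    simp only [colsOK, List.all_eq_true, Nat.beq_eq] at h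
    exact fix_of_check (hlt j hj) fun g hg => h g hg j hj
  | L :: r, pre, h, hlt, j, hj => by
    simp only [colsOK, Bool.and_eq_true, List.all_eq_true, Nat.beq_eq] at h
    exact fix_of_check (hlt j hj) fun g hg => h.1.1.1.2 g hg j hj

theorem nodupN_nodup : ∀ {l : List ℕ}, nodupN l = true → l.Nodup
  | [], _ => List.nodup_nil
  | a :: l, h => by
    simp only [nodupN, Bool.and_eq_true, Bool.not_eq_true', List.any_eq_false] at h
    exact List.nodup_cons.2 ⟨fun hm => h.1 a hm (Nat.beq_refl a), nodupN_nodup h.2⟩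

theorem dcol_pt_inj {b : ℕ} {x y : CL} (h : dcol (pt b x) = dcol (pt b y)) : pt b x = pt b y := by
  have hlt : ∀ z, pt b z < 64 := fun z => by
    unfold pt
    split <;> omega
  have h0 := q4_eq_iff.1 (congrFun h 0)
  have h1 := q4_eq_iff.1 (congrFun h 1)
  have h2 := q4_eq_iff.1 (congrFun h 2)
  have := hlt x
  have := hlt y
  omega

/-- the image in the special linear group -/
def img (l : List CL) : Subgroup S3 := (hof codeA l).map (MonoidHom.fst _ _)

theorem img_lower : ∀ (Ls : List (Lvl CL)) (pre : List ℕ),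
    chainOK codeA pt kerC finG Ls = true → Has codeA (ngens finG Ls) → colsOK pre Ls = true →
    (∀ j ∈ pre, j < 3) → (Ls.map fun L => L.trans.length).prod ≤ Nat.card (img (ngens finG Ls))
  | [], pre, _, _, _, _ => by simpa using Nat.one_le_iff_ne_zero.2 Nat.card_pos.ne'
  | L :: r, pre, hc, hh, hcol, hlt => by
    obtain ⟨hhas, hle⟩ := has_next respects hc hh
    simp only [chainOK, lvlOK, Bool.and_eq_true, List.all_eq_true] at hc
    simp only [colsOK, Bool.and_eq_true, Nat.blt_eq] at hcol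
    have hb : L.b < 3 := hcol.1.1.1.1
    have hlt' : ∀ j ∈ L.b :: pre, j < 3 := List.forall_mem_cons.2 ⟨hb, hlt⟩
    have hrec := img_lower r (L.b :: pre) hc.2 hhas hcol.2 hlt'
    have hu : ∀ i : Fin L.trans.length, ∃ u ∈ hof codeA L.gens, RepA u L.trans[i].1.2 := by
      intro i
      have hm : L.trans[i] ∈ L.trans := List.getElem_mem i.2
      obtain ⟨u, huH, hur⟩ := exists_evL codeA hh L.trans[i].1.1
      exact ⟨u, huH, respects _ _ _ hur (hc.1.1.1.1 _ hm).1⟩
    choose u huH hur using hu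
    let F : Fin L.trans.length × img (ngens finG r) → img L.gens := fun q =>
      ⟨(u q.1).1 * q.2.1, mul_mem ⟨u q.1, huH q.1, rfl⟩ (Subgroup.map_mono hle q.2.2)⟩
    have hF : Function.Injective F := by
      rintro ⟨i, s, a, ha, rfl⟩ ⟨j, t, b, hb', rfl⟩ e
      have e' : ((u i) * a).1 = ((u j) * b).1 := congrArg Subtype.val e
      have eb : moves (u i * a) (ev L.b) = moves (u j * b) (ev L.b) := by
        rw [moves, moves, e']
      rw [moves_mul, moves_mul, cols_fix r _ hcol.2 hlt' L.b List.mem_cons_self a ha,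
        cols_fix r _ hcol.2 hlt' L.b List.mem_cons_self b hb', moves_rep (hur i) hb,
        moves_rep (hur j) hb] at eb
      have eb' := dcol_pt_inj eb
      have hnd := nodupN_nodup hcol.1.2
      have hij : i = j := Fin.ext (by
        refine (List.Nodup.getElem_inj_iff hnd (hi := by simp) (hj := by simp)).1 ?_
        simpa using eb')
      subst hij
      refine Prod.ext rfl (Subtype.ext ?_)
      exact mul_left_cancel e'
    rw [List.map_cons, List.prod_cons]
    refine le_trans ?_ (Nat.card_le_card_of_injective F hF)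
    rw [Nat.card_prod, Nat.card_fin]
    exact Nat.mul_le_mul_left _ hrec

theorem kernel_form : ∀ (Ls : List (Lvl CL)) (pre : List ℕ),
    chainOK codeA pt kerC finG Ls = true → Has codeA (ngens finG Ls) → colsOK pre Ls = true →
    (∀ j ∈ pre, j < 3) →
    ∀ a ∈ hof codeA (ngens finG Ls), a.1 = 1 → ∃ z ∈ kerC, RepA a z
  | [], pre, hc, hh, _, _, a, ha, _ => (chain_spec respects invRespects [] hc hh).2 a ha
  | L :: r, pre, hc, hh, hcol, hlt, a, ha, h1 => by
    obtain ⟨hhas, -⟩ := has_next respects hc hh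
    obtain ⟨t, ht, u, h, hu, hh', rfl⟩ := (chain_spec respects invRespects (L :: r) hc hh).2 a ha
    simp only [chainOK, Bool.and_eq_true] at hc
    simp only [colsOK, Bool.and_eq_true, List.all_eq_true, Bool.or_eq_true, Bool.not_eq_true',
      Nat.blt_eq] at hcol
    have hb : L.b < 3 := hcol.1.1.1.1
    have hlt' : ∀ j ∈ L.b :: pre, j < 3 := List.forall_mem_cons.2 ⟨hb, hlt⟩
    have hfix := cols_fix r _ hcol.2 hlt' L.b List.mem_cons_self h hh'
    have e : moves (u * h) (ev L.b) = ev L.b := by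
      rw [moves, h1]; exact one_mulVec _
    rw [moves_mul, hfix, moves_rep hu hb] at e
    have e' : pt L.b t.1.2 = pt L.b oneC := dcol_pt_inj (by rw [e, ← moves_rep repA_one hb, moves_one])
    have hu1 : u = 1 := by
      rcases hcol.1.1.2 t ht with hx | hx
      · rw [← Bool.not_eq_true, Nat.beq_eq] at hx
        exact absurd e' hx
      · exact (eqC_iff hu repA_one).1 hx
    subst hu1
    rw [one_mul] at h1 ⊢
    exact kernel_form r _ hc.2 hhas hcol.2 hlt' h hh' h1

/-- the projection -/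
def proj : Cover →* S3 := (MonoidHom.fst _ _).comp Cover.subtype

theorem natCard_S3 : Nat.card S3 = 60480 := by
  have h := CfsgLib.Classical.card_SL_fin' (F := QField) 3
  rw [h, Nat.card_eq_fintype_card, QField.card_eq]
  norm_num [Finset.prod_range_succ]

theorem proj_surjective : Function.Surjective proj := by
  have h : img lvl0.gens = ⊤ := by
    refine Subgroup.eq_top_of_le_card _ ?_
    rw [natCard_S3]
    refine le_trans (le_of_eq ?_) (img_lower levels [] chain_ok has_top cols_ok (by simp))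
    decide +kernel
  intro g
  obtain ⟨a, ha, e⟩ : g ∈ img lvl0.gens := h ▸ Subgroup.mem_top g
  exact ⟨⟨a, ha⟩, e⟩

theorem exists_zel (i : Fin 3) : ∃ z : Cover, RepA (z : Amb) (zC.getD i (oneC, oneC)).1 := by
  have hi : (i : ℕ) < zC.length := by rw [z_ok.1]; exact i.2
  rw [List.getD_eq_getElem _ _ hi]
  have h := List.all_eq_true.1 z_ok.2.1 _ (List.getElem_mem hi)
  rw [Bool.and_eq_true] at h
  obtain ⟨g, hg⟩ := exists_amb h.1
  exact ⟨⟨g, mem_cover_of_sift hg h.2⟩, hg⟩

/-- the central generators -/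
noncomputable def zel (i : Fin 3) : Cover := (exists_zel i).choose

theorem rep_zel (i : Fin 3) : RepA (zel i : Amb) (zC.getD i (oneC, oneC)).1 := (exists_zel i).choose_spec

theorem zel_central (i : Fin 3) : zel i ∈ Subgroup.center Cover := by
  rw [Subgroup.mem_center_iff]
  rintro ⟨g, hg⟩
  refine Subtype.ext ?_
  show g * (zel i : Amb) = (zel i : Amb) * g
  have hi : (i : ℕ) < zC.length := by rw [z_ok.1]; exact i.2
  induction hg using Subgroup.closure_induction with
  | mem x hx =>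
    obtain ⟨y, hy, hr⟩ := hx
    have h := List.all_eq_true.1 (List.all_eq_true.1 z_ok.2.2.1 _ (List.getElem_mem hi)) y hy
    have hz := rep_zel i
    rw [List.getD_eq_getElem _ _ hi] at hz
    exact ((eqC_iff (hz.mul hr) (hr.mul hz)).1 h).symm
  | one => rw [one_mul, mul_one]
  | mul x y _ _ hx hy => exact Commute.mul_left hx hy
  | inv x _ hx => exact Commute.inv_left hx

/-- products of powers of the central generators -/
noncomputable def zpr (a b c : ℕ) : Cover := zel 0 ^ a * zel 1 ^ b * zel 2 ^ c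

theorem rep_zpr (a b c : ℕ) : RepA (zpr a b c : Amb) (zK a b c) :=
  ((Cert.rep_powC (K := codeA) (rep_zel 0) a).mul (Cert.rep_powC (K := codeA) (rep_zel 1) b)).mul
    (Cert.rep_powC (K := codeA) (rep_zel 2) c)

theorem zpr_central (a b c : ℕ) : zpr a b c ∈ Subgroup.center Cover :=
  mul_mem (mul_mem (pow_mem (zel_central 0) a) (pow_mem (zel_central 1) b)) (pow_mem (zel_central 2) c)

theorem zel_orders : zel 0 ^ 3 = 1 ∧ zel 1 ^ 4 = 1 ∧ zel 2 ^ 4 = 1 := by
  have h := z_ok.2.2.2.1
  simp only [Bool.and_eq_true] at h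
  have e : ∀ a b c, eqC (zK a b c) oneC = true → zpr a b c = 1 := fun a b c he =>
    Subtype.ext ((eqC_iff (rep_zpr a b c) repA_one).1 he)
  exact ⟨by simpa [zpr] using e _ _ _ h.1.1, by simpa [zpr] using e _ _ _ h.1.2,
    by simpa [zpr] using e _ _ _ h.2⟩

theorem zel_commutator (i : Fin 3) : zel i ∈ commutator Cover := by
  obtain ⟨hall, hlen⟩ := comm_ok
  have hi : (i : ℕ) < zC.length := by rw [z_ok.1]; exact i.2
  have hi' : (i : ℕ) < (commPairs.zip zC).length := by rw [List.length_zip, hlen, min_self]; exact hi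
  have h := List.all_eq_true.1 hall _ (List.getElem_mem hi')
  rw [List.getElem_zip] at h
  generalize commPairs[(i : ℕ)]'(by rw [hlen]; exact hi) = q at h
  simp only [Bool.and_eq_true] at h
  obtain ⟨⟨⟨⟨ga, gb⟩, sa⟩, sb⟩, he⟩ := h
  obtain ⟨a, ha⟩ := exists_amb ga
  obtain ⟨b, hb⟩ := exists_amb gb
  let a' : Cover := ⟨a, mem_cover_of_sift ha sa⟩
  let b' : Cover := ⟨b, mem_cover_of_sift hb sb⟩
  have hz := rep_zel i
  rw [List.getD_eq_getElem _ _ hi] at hz
  have e : a' * b' = zel i * (b' * a') :=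
    Subtype.ext ((eqC_iff (ha.mul hb) (hz.mul (hb.mul ha))).1 he)
  have e' : zel i = ⁅a', b'⁆ := by
    rw [commutatorElement_def, e]
    group
  rw [e']
  exact Subgroup.commutator_mem_commutator (Subgroup.mem_top _) (Subgroup.mem_top _)

/-- the projection to the projective group -/
def sigma : Cover →* ProjectiveSpecialLinearGroup (Fin 3) QField :=
  (QuotientGroup.mk' (Subgroup.center S3)).comp proj

theorem mem_ker_sigma {g : Cover} : g ∈ sigma.ker ↔ proj g ∈ Subgroup.center S3 := by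
  rw [MonoidHom.mem_ker]
  exact QuotientGroup.eq_one_iff _

theorem scalar_code (r : ℕ) :
    dec3 ⟨r, 0, 0, 0, r, 0, 0, 0, r⟩ = Matrix.scalar (Fin 3) (q4 r) := by
  ext i j
  fin_cases i <;> fin_cases j <;> simp [dec3, Matrix.scalar_apply] <;> rfl

theorem zpr_mem_ker (a : Fin 3) (b c : Fin 4) : zpr a b c ∈ sigma.ker := by
  rw [mem_ker_sigma, Matrix.SpecialLinearGroup.mem_center_iff]
  obtain ⟨r, hr, h⟩ := List.any_eq_true.1 (List.all_eq_true.1 (List.all_eq_true.1 (List.all_eq_true.1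
    scalar_ok.2 a (List.mem_range.2 a.2)) b (List.mem_range.2 b.2)) c (List.mem_range.2 c.2))
  have e : ((proj (zpr a b c)) : Matrix (Fin 3) (Fin 3) QField) = Matrix.scalar (Fin 3) (q4 r) := by
    rw [← scalar_code, ← eq3_iff.1 h]
    exact (rep_zpr a b c).1
  refine ⟨q4 r, ?_, e.symm⟩
  have hd := (proj (zpr a b c)).2
  rw [e, Matrix.scalar_apply, Matrix.det_diagonal, Finset.prod_const, Finset.card_univ] at hd
  exact hd

theorem exists_zpr {g : Cover} (hg : g ∈ sigma.ker) :
    ∃ a : Fin 3, ∃ b c : Fin 4, g = zpr a b c := by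
  rw [mem_ker_sigma, Matrix.SpecialLinearGroup.mem_center_iff] at hg
  obtain ⟨r, hr, er⟩ := hg
  rw [Fintype.card_fin] at hr
  obtain ⟨n, hn, rfl⟩ := q4_surjective r
  have h := List.all_eq_true.1 scalar_ok.1 n (List.mem_range.2 hn)
  rw [Bool.or_eq_true, Bool.not_eq_true', decide_eq_false_iff_not] at h
  obtain ⟨a, ha, hae⟩ := List.any_eq_true.1 (h.resolve_left (fun h' => h' hr))
  rw [List.mem_range] at ha
  have e1 : (proj ((zpr a 0 0)⁻¹ * g)) = 1 := by
    rw [map_mul, map_inv, inv_mul_eq_one]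
    refine Subtype.ext ?_
    rw [← er, ← scalar_code, ← eq3_iff.1 hae]
    exact (rep_zpr a 0 0).1
  obtain ⟨z, hz, hzr⟩ := kernel_form levels [] chain_ok has_top cols_ok (by simp) _
    ((zpr a 0 0)⁻¹ * g).2 e1
  obtain ⟨b, hb, hbc⟩ := List.any_eq_true.1 (List.all_eq_true.1 z_ok.2.2.2.2.1 z hz)
  obtain ⟨c, hc, he⟩ := List.any_eq_true.1 hbc
  rw [List.mem_range] at hb hc
  refine ⟨⟨a, ha⟩, ⟨b, hb⟩, ⟨c, hc⟩, ?_⟩
  have e2 : (zpr a 0 0)⁻¹ * g = zpr 0 b c :=
    Subtype.ext ((eqC_iff hzr (rep_zpr 0 b c)).1 he)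
  rw [inv_mul_eq_iff_eq_mul] at e2
  rw [e2]
  simp only [zpr, pow_zero, mul_one, one_mul, mul_assoc]

theorem natCard_cover : Nat.card Cover = 967680 := by
  have hk : Nat.card proj.ker = 16 := by
    let f : Fin 4 × Fin 4 → proj.ker := fun q => ⟨zpr 0 q.1 q.2, by
      have hm := zpr_mem_ker 0 q.1 q.2
      rw [MonoidHom.mem_ker]
      refine Subtype.ext ?_
      have hz : ∀ b c : Fin 4, eq3 (zK 0 b c).a one3 = true := by decide +kernel
      show ((zpr 0 q.1 q.2 : Amb).1 : Matrix (Fin 3) (Fin 3) QField) = 1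
      rw [← dec3_one, ← eq3_iff.1 (hz q.1 q.2)]
      exact (rep_zpr 0 q.1 q.2).1⟩
    have hinj : ∀ b b' c c' : Fin 4, eqC (zK 0 b c) (zK 0 b' c') = true → b = b' ∧ c = c' := by
      decide +kernel
    have hf : Function.Bijective f := by
      constructor
      · rintro ⟨b, c⟩ ⟨b', c'⟩ h
        obtain ⟨e1, e2⟩ := hinj b b' c c' ((eqC_iff (rep_zpr 0 b c) (rep_zpr 0 b' c')).2
          (congrArg (fun x : proj.ker => ((x : Cover) : Amb)) h))
        rw [e1, e2]
      · rintro ⟨g, hg⟩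
        obtain ⟨z, hz, hzr⟩ := kernel_form levels [] chain_ok has_top cols_ok (by simp) _ g.2 hg
        obtain ⟨b, hb, hbc⟩ := List.any_eq_true.1 (List.all_eq_true.1 z_ok.2.2.2.2.1 z hz)
        obtain ⟨c, hc, he⟩ := List.any_eq_true.1 hbc
        rw [List.mem_range] at hb hc
        exact ⟨(⟨b, hb⟩, ⟨c, hc⟩), Subtype.ext (Subtype.ext
          ((eqC_iff (rep_zpr 0 b c) hzr).1 ((eqC_iff (rep_zpr 0 b c) hzr).2
            ((eqC_iff hzr (rep_zpr 0 b c)).1 he).symm)))⟩
    rw [← Nat.card_eq_of_bijective f hf, Nat.card_prod, Nat.card_fin]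
  have h := proj.ker.card_mul_index
  rw [Subgroup.index_ker, MonoidHom.range_eq_top.2 proj_surjective,
    Nat.card_congr Subgroup.topEquiv.toEquiv, natCard_S3, hk] at h
  exact h.symm

theorem trivial_multiplier : Cfsg.HasCyclicSchurMultiplier Cover 1 := by
  haveI : Finite Cover := Nat.finite_of_card_ne_zero (by rw [natCard_cover]; norm_num)
  refine hasTrivialMultiplier_of_primeCond fun p hp => ?_
  by_cases h2 : p = 2
  · subst h2
    exact Cert.primeCond cert2_valid (m := 945)
      (natCard_cover.trans (by norm_num [cert2])) (by norm_num)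
  by_cases h3 : p = 3
  · subst h3
    exact Cert.primeCond cert3_valid (m := 35840)
      (natCard_cover.trans (by norm_num [cert3])) (by norm_num)
  refine primeCond_of_cyclic default (isCyclic_sylow (p := p) ?_ default)
  intro hd
  rw [natCard_cover, show (967680 : ℕ) = 2 ^ 10 * 3 ^ 3 * 35 by norm_num] at hd
  have hc : ∀ q k : ℕ, q.Prime → p ≠ q → Nat.Coprime (p ^ 2) (q ^ k) := fun q k hq hne =>
    Nat.Coprime.pow 2 k ((Nat.coprime_primes hp.out hq).2 hne)
  have h35 : p ^ 2 ∣ 35 :=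
    ((hc 2 10 Nat.prime_two h2).mul_right (hc 3 3 Nat.prime_three h3)).dvd_of_dvd_mul_left hd
  have hle : p ^ 2 ≤ 35 := Nat.le_of_dvd (by norm_num) h35
  have h2le := hp.out.two_le
  have : p < 6 := by nlinarith
  interval_cases p
  all_goals
    first
      | (norm_num at h35; done)
      | (have := hp.out; norm_num at this; done)

theorem isStem_sigma : Cfsg.IsStemExtension sigma := by
  refine ⟨(QuotientGroup.mk'_surjective _).comp proj_surjective, fun g hg => ?_, fun g hg => ?_⟩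
  · obtain ⟨a, b, c, rfl⟩ := exists_zpr hg
    exact zpr_central _ _ _
  · obtain ⟨a, b, c, rfl⟩ := exists_zpr hg
    exact mul_mem (mul_mem (pow_mem (zel_commutator 0) _) (pow_mem (zel_commutator 1) _))
      (pow_mem (zel_commutator 2) _)

theorem pow_val_add {x : Cover} {n : ℕ} [NeZero n] (hx : x ^ n = 1) (a b : ZMod n) :
    x ^ (a + b).val = x ^ a.val * x ^ b.val := by
  rw [← pow_add, ZMod.val_add]
  exact (pow_eq_pow_mod _ hx).symm

theorem hasSchurMultiplier {F : Type*} [Field F] [Fintype F] (hF : Fintype.card F = 4) :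
    Cfsg.HasSchurMultiplier (Matrix.ProjectiveSpecialLinearGroup (Fin 3) F)
      (Multiplicative (ZMod 3 × ZMod 4 × ZMod 4)) := by
  obtain ⟨e⟩ := CfsgLib.PSL2.nonempty_psl_congr (n := Fin 3)
    (FiniteField.ringEquivOfCardEq (K := QField) (K' := F) (by rw [QField.card_eq, hF]))
  let σ : Cover →* Matrix.ProjectiveSpecialLinearGroup (Fin 3) F := e.toMonoidHom.comp sigma
  have hker : σ.ker = sigma.ker := by
    ext x
    simp [σ, MonoidHom.mem_ker]
  have hs : Cfsg.IsStemExtension σ :=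
    ⟨e.surjective.comp isStem_sigma.1, hker ▸ isStem_sigma.2.1, hker ▸ isStem_sigma.2.2⟩
  haveI : Finite Cover := Nat.finite_of_card_ne_zero (by rw [natCard_cover]; norm_num)
  obtain ⟨e'⟩ := CfsgLib.Schur.mult_equiv_ker_of_trivial σ hs trivial_multiplier
  obtain ⟨o0, o1, o2⟩ := zel_orders
  have hc : ∀ i, ∀ g, Commute g (zel i) := fun i g => Subgroup.mem_center_iff.1 (zel_central i) g
  let f : Multiplicative (ZMod 3 × ZMod 4 × ZMod 4) → Cover := fun r =>
    zpr r.toAdd.1.val r.toAdd.2.1.val r.toAdd.2.2.val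
  have hmul : ∀ r s, f (r * s) = f r * f s := by
    intro r s
    simp only [f, zpr, toAdd_mul, Prod.fst_add, Prod.snd_add, pow_val_add o0, pow_val_add o1,
      pow_val_add o2]
    have k1 := fun m g => ((hc 1 g).pow_right m).symm.eq
    have k0 := fun m g => ((hc 0 g).pow_right m).symm.eq
    calc zel 0 ^ r.toAdd.1.val * zel 0 ^ s.toAdd.1.val * (zel 1 ^ r.toAdd.2.1.val * zel 1 ^ s.toAdd.2.1.val) *
          (zel 2 ^ r.toAdd.2.2.val * zel 2 ^ s.toAdd.2.2.val)
        = zel 0 ^ r.toAdd.1.val * (zel 0 ^ s.toAdd.1.val * zel 1 ^ r.toAdd.2.1.val) *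
            (zel 1 ^ s.toAdd.2.1.val * zel 2 ^ r.toAdd.2.2.val) * zel 2 ^ s.toAdd.2.2.val := by
          simp only [mul_assoc]
      _ = zel 0 ^ r.toAdd.1.val * (zel 1 ^ r.toAdd.2.1.val * zel 0 ^ s.toAdd.1.val) *
            (zel 2 ^ r.toAdd.2.2.val * zel 1 ^ s.toAdd.2.1.val) * zel 2 ^ s.toAdd.2.2.val := by
          rw [k0 _ (zel 1 ^ _), k1 _ (zel 2 ^ _)]
      _ = zel 0 ^ r.toAdd.1.val * zel 1 ^ r.toAdd.2.1.val *
            (zel 0 ^ s.toAdd.1.val * zel 2 ^ r.toAdd.2.2.val) *
            (zel 1 ^ s.toAdd.2.1.val * zel 2 ^ s.toAdd.2.2.val) := by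
          simp only [mul_assoc]
      _ = _ := by rw [k0 _ (zel 2 ^ _)]; simp only [mul_assoc]
  let φ : Multiplicative (ZMod 3 × ZMod 4 × ZMod 4) →* σ.ker :=
    MonoidHom.mk' (fun r => ⟨f r, hker ▸ zpr_mem_ker
      ⟨r.toAdd.1.val, ZMod.val_lt _⟩ ⟨r.toAdd.2.1.val, ZMod.val_lt _⟩ ⟨r.toAdd.2.2.val, ZMod.val_lt _⟩⟩)
      fun r s => Subtype.ext (hmul r s)
  have hφ : Function.Bijective φ := by
    refine ⟨(injective_iff_map_eq_one φ).2 fun r hr => ?_, fun g => ?_⟩
    · have h' : f r = 1 := congrArg Subtype.val hr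
      have h := List.all_eq_true.1 (List.all_eq_true.1 (List.all_eq_true.1 z_ok.2.2.2.2.2 r.toAdd.1.val
        (List.mem_range.2 (ZMod.val_lt _))) r.toAdd.2.1.val (List.mem_range.2 (ZMod.val_lt _)))
        r.toAdd.2.2.val (List.mem_range.2 (ZMod.val_lt _))
      simp only [Bool.or_eq_true, Bool.and_eq_true, Nat.beq_eq, Bool.not_eq_true'] at h
      have h0 := h.resolve_right fun hx => by
        rw [← Bool.not_eq_true, eqC_iff (rep_zpr _ _ _) repA_one] at hx
        exact hx (congrArg Subtype.val h')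
      refine Multiplicative.toAdd.injective (Prod.ext ?_ (Prod.ext ?_ ?_)) <;>
        exact (ZMod.val_eq_zero _).1 (by first | exact h0.1.1 | exact h0.1.2 | exact h0.2)
    · obtain ⟨a, b, c, he⟩ := exists_zpr (g := g.1) (hker ▸ g.2)
      refine ⟨Multiplicative.ofAdd ((a : ℕ), (b : ℕ), (c : ℕ)), Subtype.ext ?_⟩
      show f _ = g.1
      rw [he]
      simp only [f, toAdd_ofAdd, ZMod.val_natCast]
      rw [Nat.mod_eq_of_lt a.2, Nat.mod_eq_of_lt b.2, Nat.mod_eq_of_lt c.2]
  exact CfsgLib.Schur.hasSchurMultiplier_iff.2 ⟨(MulEquiv.ofBijective φ hφ).trans e'.symm⟩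

end CfsgLib.KnownB.L34
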